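import Groth.Agent.Lib.FibreFlat.UnivRegular
import Mathlib.RingTheory.Ideal.AssociatedPrime.Basic
import Mathlib.RingTheory.FiniteType
import Mathlib.RingTheory.LocalRing.ResidueField.Ideal
import Mathlib.RingTheory.Flat.Localization

set_option linter.all false

/-!
# Non-zero-divisors from the fibres
-/

universe u

open TensorProduct

namespace GrothLib.RegS16

variable {A B M : Type u} [CommRing A] [CommRing B] [Algebra A B] [AddCommGroup M] [Module B M]
  [Module A M] [IsScalarTower A B M]

/-- Injectivity of regular multiplication passes from `(B ⊗ K) ⊗ M` to `M ⊗ K`. -/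
theorem eq_zero_of_smul_tensor (K : Type u) [CommRing K] [Algebra A K] (a : B)
    (h : IsSMulRegular ((B ⊗[A] K) ⊗[B] M) (a ⊗ₜ[A] (1 : K))) (z : M ⊗[A] K) (hz : a • z = 0) :
    z = 0 := by
  let e : M ⊗[A] K →ₗ[B] (B ⊗[A] K) ⊗[B] M :=
    AlgebraTensorModule.lift
      { toFun := fun m =>
          { toFun := fun k => ((1 : B) ⊗ₜ[A] k) ⊗ₜ[B] m
            map_add' := fun x y => by rw [tmul_add, add_tmul]
            map_smul' := fun r x => by rw [tmul_smul, ← smul_tmul', RingHom.id_apply] }
        map_add' := fun x y => LinearMap.ext fun k => tmul_add _ _ _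
        map_smul' := fun b x => LinearMap.ext fun k => tmul_smul b _ x }
  let e' : (B ⊗[A] K) ⊗[B] M →ₗ[B] M ⊗[A] K :=
    TensorProduct.lift
      (AlgebraTensorModule.lift
        { toFun := fun b =>
            { toFun := fun k =>
                b • ((AlgebraTensorModule.mk A B M K).flip k)
              map_add' := fun x y => by ext m; simp [tmul_add, smul_add]
              map_smul' := fun r x => by ext m; simp [tmul_smul, smul_comm r b] }
          map_add' := fun x y => by ext k m; simp [add_smul]
          map_smul' := fun b x => by ext k m; simp [mul_smul] })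
  have hinv : ∀ z, e' (e z) = z := fun z => by
    induction z using TensorProduct.induction_on with
    | zero => simp
    | add x y hx hy => rw [map_add, map_add, hx, hy]
    | tmul m k => simp [e, e']
  have hs : ∀ w : (B ⊗[A] K) ⊗[B] M, (a ⊗ₜ[A] (1 : K)) • w = a • w := fun w =>
    algebraMap_smul (B ⊗[A] K) a w
  have h0 : e z = 0 := h (by
    show (a ⊗ₜ[A] (1 : K)) • e z = (a ⊗ₜ[A] (1 : K)) • (0 : (B ⊗[A] K) ⊗[B] M)
    rw [smul_zero, hs, ← map_smul, hz, map_zero])
  rw [← hinv z, h0, map_zero]

theorem isSMulRegular_of_fibres [Algebra.FinitePresentation A B] [Module.FinitePresentation B M]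
    [Module.Flat A M]
    (hS1 : ∀ (p : Ideal A) [p.IsPrime],
      associatedPrimes (B ⊗[A] p.ResidueField) ((B ⊗[A] p.ResidueField) ⊗[B] M) ⊆
        (Module.annihilator (B ⊗[A] p.ResidueField) ((B ⊗[A] p.ResidueField) ⊗[B] M)).minimalPrimes)
    (a : B)
    (ha : ∀ (p : Ideal A) [p.IsPrime],
      ∀ P ∈ (Module.annihilator (B ⊗[A] p.ResidueField) ((B ⊗[A] p.ResidueField) ⊗[B] M)).minimalPrimes,
        a ⊗ₜ[A] (1 : p.ResidueField) ∉ P) :
    IsSMulRegular M a := by
  refine .of_right_eq_zero_of_smul fun m hm => ?_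
  by_contra hne
  obtain ⟨q, hq, hle⟩ := Ideal.exists_le_maximal (Submodule.colon (⊥ : Submodule B M) {m})
    (fun htop => hne (by
      have h1 : (1 : B) • m ∈ (⊥ : Submodule B M) :=
        Submodule.mem_colon_singleton.mp (htop ▸ Submodule.mem_top (x := (1 : B)))
      rwa [one_smul, Submodule.mem_bot] at h1))
  haveI := hq.isPrime
  let p := q.comap (algebraMap A B)
  let K := p.ResidueField
  haveI : Module.Flat A (LocalizedModule q.primeCompl M) := by
    haveI : Module.Flat B (Localization q.primeCompl) := IsLocalization.flat _ q.primeCompl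
    haveI : Module.Flat A (Localization q.primeCompl ⊗[B] M) :=
      Module.Flat.iff_lTensor_preserves_injective_linearMap.mpr fun N N' _ _ _ _ f hf =>
        GrothLib.FibreFlat.lTensor_injective_of_isLocalizedModule q.primeCompl
          (TensorProduct.mk B (Localization q.primeCompl) M 1) f
          fun x hx => ⟨1, one_mem _, by
            rw [one_smul]
            exact Module.Flat.lTensor_preserves_injective_linearMap (M := M) f hf
              (hx.trans (map_zero _).symm)⟩
    exact Module.Flat.of_linearEquiv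
      ((LocalizedModule.equivTensorProduct q.primeCompl M).restrictScalars A)
  haveI : IsNoetherianRing (K ⊗[A] B) := Algebra.FiniteType.isNoetherianRing K (K ⊗[A] B)
  haveI : IsNoetherianRing (B ⊗[A] K) :=
    isNoetherianRing_of_ringEquiv (K ⊗[A] B) (Algebra.TensorProduct.comm A K B).toRingEquiv
  have hreg : IsSMulRegular ((B ⊗[A] K) ⊗[B] M) (a ⊗ₜ[A] (1 : K)) := by
    by_contra hr
    have hmem : a ⊗ₜ[A] (1 : K) ∈ ⋃ P ∈ associatedPrimes (B ⊗[A] K) ((B ⊗[A] K) ⊗[B] M),
        (P : Set (B ⊗[A] K)) := by
      rw [biUnion_associatedPrimes_eq_compl_regular]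
      exact hr
    obtain ⟨P, hP, hmP⟩ := Set.mem_iUnion₂.mp hmem
    exact ha p P (hS1 p hP) hmP
  have key := GrothLib.FibreFlat.univ_regular (A := A) (B := B) (M := M) (K := K) q inferInstance
    (Ideal.ker_algebraMap_residueField p) a
    (fun z hz => ⟨1, fun h1 => hq.ne_top ((Ideal.eq_top_iff_one q).mpr h1), by
      rw [eq_zero_of_smul_tensor K a hreg z hz, smul_zero]⟩) A
  obtain ⟨t, ht, h0⟩ := key (m ⊗ₜ[A] (1 : A)) (by rw [smul_tmul', hm, zero_tmul])
  refine ht (hle (Submodule.mem_colon_singleton.mpr ((Submodule.mem_bot B).mpr ?_)))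
  have := congrArg (TensorProduct.rid A M) h0
  simpa [smul_tmul'] using this

end GrothLib.RegS16
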